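import Mathlib

/-!
# Counting powers of a matrix modulo scalars

If the minimal polynomial of `N` has coefficients in a subfield `K` then the order of `N` modulo scalars is at
most `(|K| ^ d - 1) / (|K| - 1)`, and at most half of `(q ^ d - 1) / (q - 1)` if the polynomial relations of
`N` are inherited, up to a field automorphism, by `N⁻¹` and `d ≥ 3`.
-/

set_option autoImplicit false

namespace Cfsg.Agent.Lib.AutPSLOrder

open Polynomial Matrix

variable {F : Type*} [Field F] {d : ℕ}

local notation "Mat" => Matrix (Fin d) (Fin d) F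

/-- The order modulo scalars. -/
noncomputable def pord (N : GL (Fin d) F) : ℕ :=
  orderOf (QuotientGroup.mk N : GL (Fin d) F ⧸ Subgroup.center (GL (Fin d) F))

theorem pord_pos [Finite F] (N : GL (Fin d) F) : 0 < pord N := orderOf_pos _

theorem pow_pord_mem (N : GL (Fin d) F) : N ^ pord N ∈ Subgroup.center (GL (Fin d) F) := by
  rw [← QuotientGroup.eq_one_iff, QuotientGroup.mk_pow]
  exact pow_orderOf_eq_one _

theorem val_pow_mul_scalar (N : GL (Fin d) F) (i : ℕ) (c : F) :
    aeval (N : Mat) (C c * X ^ i) = c • ((N ^ i : GL (Fin d) F) : Mat) := by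
  rw [map_mul, map_pow, aeval_C, aeval_X, ← Algebra.smul_def, Units.val_pow_eq_pow_val]

/-- The elements `λ N ^ i` are distinct. -/
theorem pow_smul_injective (hd : 0 < d) (N : GL (Fin d) F) :
    Function.Injective fun x : Fin (pord N) × Fˣ => (x.2 : F) • ((N ^ (x.1 : ℕ) : GL (Fin d) F) : Mat) := by
  have : Nonempty (Fin d) := ⟨⟨0, hd⟩⟩
  rintro ⟨i, u⟩ ⟨i', u'⟩ h
  simp only at h
  have hz : ∀ w : Fˣ, GeneralLinearGroup.scalar (Fin d) w ∈ Subgroup.center (GL (Fin d) F) := fun w => by
    rw [GeneralLinearGroup.center_eq_range_scalar]; exact ⟨w, rfl⟩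
  have hv : ∀ (w : Fˣ) (j : ℕ), ((GeneralLinearGroup.scalar (Fin d) w * N ^ j : GL (Fin d) F) : Mat) =
      (w : F) • ((N ^ j : GL (Fin d) F) : Mat) := by
    intro w j
    rw [Units.val_mul, GeneralLinearGroup.coe_scalar, Matrix.scalar_apply, ← smul_one_eq_diagonal,
      Matrix.smul_mul, Matrix.one_mul]
  have he : GeneralLinearGroup.scalar (Fin d) u * N ^ (i : ℕ) =
      GeneralLinearGroup.scalar (Fin d) u' * N ^ (i' : ℕ) := Units.ext (by rw [hv, hv, h])
  have hm := congrArg (QuotientGroup.mk : _ → GL (Fin d) F ⧸ Subgroup.center (GL (Fin d) F)) he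
  rw [QuotientGroup.mk_mul, QuotientGroup.mk_mul, (QuotientGroup.eq_one_iff _).2 (hz u),
    (QuotientGroup.eq_one_iff _).2 (hz u'), one_mul, one_mul, QuotientGroup.mk_pow,
    QuotientGroup.mk_pow] at hm
  have hii : i = i' := Fin.ext (pow_injOn_Iio_orderOf i.2 i'.2 hm)
  subst hii
  rw [mul_left_inj] at he
  have := congrArg (fun M : GL (Fin d) F => (M : Mat) ⟨0, hd⟩ ⟨0, hd⟩) he
  simp [GeneralLinearGroup.coe_scalar, Matrix.scalar_apply] at this
  exact Prod.ext rfl (Units.ext this)

variable {K : Subfield F} (N : GL (Fin d) F) (p : K[X])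

/-- Coefficient vectors exist. -/
theorem exists_coeff {k : ℕ} (hp : p.Monic) (hdeg : p.natDegree ≤ k)
    (hroot : aeval (N : Mat) (p.map K.subtype) = 0) (P : K[X]) :
    ∃ v : Fin k → K, aeval (N : Mat) (P.map K.subtype) =
      ∑ i, (v i : F) • ((N : Mat) ^ (i : ℕ)) := by
  refine ⟨fun i => (P %ₘ p).coeff i, ?_⟩
  conv_lhs => rw [← modByMonic_add_div P p]
  rw [Polynomial.map_add, Polynomial.map_mul, map_add, map_mul, hroot, zero_mul, add_zero]
  rcases eq_or_ne (P %ₘ p) 0 with h0 | h0
  · simp [h0]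
  have hlt : ((P %ₘ p).map K.subtype).natDegree < k := by
    rw [natDegree_map]
    exact (natDegree_lt_natDegree h0 (degree_modByMonic_lt P hp)).trans_le hdeg
  rw [aeval_eq_sum_range' hlt, Finset.sum_range]
  simp [coeff_map]

/-- The order bound over a subfield. -/
theorem pord_le [Fintype F] {k : ℕ} (hd : 0 < d) (hp : p.Monic) (hdeg : p.natDegree ≤ k)
    (hroot : aeval (N : Mat) (p.map K.subtype) = 0) :
    pord N * (Nat.card K - 1) + 1 ≤ Nat.card K ^ k := by
  classical
  have : Nonempty (Fin d) := ⟨⟨0, hd⟩⟩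
  choose v hv using fun x : Fin (pord N) × (K : Type _)ˣ =>
    exists_coeff N p hp hdeg hroot (C (x.2 : K) * X ^ (x.1 : ℕ))
  have hval : ∀ x : Fin (pord N) × (K : Type _)ˣ,
      ∑ i, (v x i : F) • ((N : Mat) ^ (i : ℕ)) = ((x.2 : K) : F) • ((N ^ (x.1 : ℕ) : GL (Fin d) F) : Mat) :=
    fun x => by
      rw [← hv x, Polynomial.map_mul, map_C, Polynomial.map_pow, map_X, val_pow_mul_scalar]; rfl
  have hne : ∀ x, v x ≠ 0 := by
    intro x h
    have := hval x
    rw [h] at this
    simp only [Pi.zero_apply, ZeroMemClass.coe_zero, zero_smul, Finset.sum_const_zero] at this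
    rw [eq_comm, smul_eq_zero] at this
    exact this.elim (fun h => x.2.ne_zero (Subtype.ext h)) (Units.ne_zero _)
  have hinj : Function.Injective fun x : Fin (pord N) × (K : Type _)ˣ =>
      (⟨v x, hne x⟩ : {w : Fin k → K // w ≠ 0}) := by
    intro x y h
    have h1 := hval x
    rw [Subtype.mk.injEq] at h
    rw [h, hval y] at h1
    have h2 := @pow_smul_injective F _ d hd N (y.1, Units.map (K.subtype : K →* F) y.2)
      (x.1, Units.map (K.subtype : K →* F) x.2) h1
    simp only [Prod.mk.injEq] at h2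
    exact Prod.ext h2.1.symm (Units.map_injective (f := (K.subtype : K →* F))
      Subtype.val_injective h2.2).symm
  have h4 := Nat.card_le_card_of_injective _ hinj
  rw [Nat.card_prod, Nat.card_fin, Nat.card_units, Nat.card_eq_fintype_card (α := {w : Fin k → K // w ≠ 0}),
    Fintype.card_subtype_compl, Fintype.card_subtype_eq, Fintype.card_pi, Finset.prod_const,
    Finset.card_univ, Fintype.card_fin, ← Nat.card_eq_fintype_card] at h4
  have : 0 < Nat.card K ^ k := Nat.pow_pos Nat.card_pos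
  omega

section Half

set_option linter.unusedSectionVars false

variable [Fintype F]

theorem top_data (N : GL (Fin d) F) :
    ∀ P : F[X], ∃ v : Fin d → F, aeval (N : Mat) P = ∑ i, v i • ((N : Mat) ^ (i : ℕ)) := by
  intro P
  refine ⟨fun i => (P %ₘ (N : Mat).charpoly).coeff i, ?_⟩
  conv_lhs => rw [← modByMonic_add_div P (N : Mat).charpoly]
  rw [map_add, map_mul, aeval_self_charpoly, zero_mul, add_zero]
  rcases eq_or_ne (P %ₘ (N : Mat).charpoly) 0 with h0 | h0
  · simp [h0]
  have hlt : (P %ₘ (N : Mat).charpoly).natDegree < d := by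
    have := natDegree_lt_natDegree h0 (degree_modByMonic_lt P (charpoly_monic _))
    rwa [charpoly_natDegree_eq_dim, Fintype.card_fin] at this
  rw [aeval_eq_sum_range' hlt, Finset.sum_range]

/-- Injection of `k` translates of the scalar multiples of the powers into coefficient vectors. -/
theorem count_le {ι : Type*} [Finite ι] (hd : 0 < d) (y : ι → F[X])
    (hu : ∀ a, IsUnit (aeval (N : Mat) (y a)))
    (hsep : ∀ a b (i i' : Fin (pord N)) (u u' : Fˣ),
      aeval (N : Mat) (y a * (C (u : F) * X ^ (i : ℕ))) = aeval (N : Mat) (y b * (C (u' : F) * X ^ (i' : ℕ))) →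
        a = b)
    (T : Set (Fin d → F))
    (hT : ∀ v : Fin d → F, IsUnit (∑ i, v i • ((N : Mat) ^ (i : ℕ))) → v ∈ T) :
    Nat.card ι * (pord N * (Fintype.card F - 1)) ≤ Nat.card T := by
  classical
  choose v hv using fun x : ι × Fin (pord N) × Fˣ =>
    top_data N (y x.1 * (C (x.2.2 : F) * X ^ (x.2.1 : ℕ)))
  have hunit : ∀ (u : Fˣ) (i : ℕ), IsUnit (aeval (N : Mat) (C (u : F) * X ^ i)) := by
    intro u i
    rw [map_mul, map_pow, aeval_C, aeval_X]
    exact (u.isUnit.map _).mul (N.isUnit.pow i)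
  have hmem : ∀ x, v x ∈ T := fun x => hT _ (by rw [← hv x, map_mul]; exact (hu _).mul (hunit _ _))
  have hinj : Function.Injective fun x => (⟨v x, hmem x⟩ : T) := by
    intro x z h
    rw [Subtype.mk.injEq] at h
    have h1 : aeval (N : Mat) (y x.1 * (C (x.2.2 : F) * X ^ (x.2.1 : ℕ))) =
        aeval (N : Mat) (y z.1 * (C (z.2.2 : F) * X ^ (z.2.1 : ℕ))) := by rw [hv, hv, h]
    obtain ⟨a, i, u⟩ := x
    obtain ⟨b, i', u'⟩ := z
    have hab := hsep _ _ _ _ _ _ h1
    subst hab
    simp only at h1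
    rw [map_mul, map_mul (aeval (N : Mat)) (y a)] at h1
    have h2 := (hu a).mul_left_cancel h1
    rw [val_pow_mul_scalar, val_pow_mul_scalar] at h2
    have h3 := @pow_smul_injective F _ d hd N (i, u) (i', u') h2
    rw [h3]
  have h4 := Nat.card_le_card_of_injective _ hinj
  rwa [Nat.card_prod, Nat.card_prod, Nat.card_fin, Nat.card_units, Nat.card_eq_fintype_card (α := F)] at h4

theorem card_ne_zero_vec : Nat.card ({0}ᶜ : Set (Fin d → F)) = Fintype.card F ^ d - 1 := by
  classical
  rw [Nat.card_eq_fintype_card, Fintype.card_compl_set, Fintype.card_pi, Finset.prod_const,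
    Finset.card_univ, Fintype.card_fin]
  simp

theorem mem_compl_zero (hd : 0 < d) (v : Fin d → F) (h : IsUnit (∑ i, v i • ((N : Mat) ^ (i : ℕ)))) :
    v ∈ ({0}ᶜ : Set (Fin d → F)) := by
  have : Nonempty (Fin d) := ⟨⟨0, hd⟩⟩
  intro hv
  rw [Set.mem_singleton_iff.1 hv] at h
  simp only [Pi.zero_apply, zero_smul, Finset.sum_const_zero] at h
  exact not_isUnit_zero h

/-- The polynomial with given coefficients. -/
noncomputable def ofVec (v : Fin d → F) : F[X] := ∑ i, C (v i) * X ^ (i : ℕ)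

theorem aeval_ofVec (v : Fin d → F) :
    aeval (N : Mat) (ofVec v) = ∑ i, v i • ((N : Mat) ^ (i : ℕ)) := by
  simp [ofVec, ← Algebra.smul_def]

theorem ofVec_coeff (v : Fin d → F) (i : Fin d) : (ofVec v).coeff i = v i := by
  simp [ofVec, coeff_C_mul_X_pow, Fin.val_inj]

/-- With many eigenvalues there are few units. -/
theorem count_roots (hd : 0 < d) (hq : 3 ≤ Fintype.card F)
    (hall : ∀ c : F, c ≠ 0 → ¬ IsUnit (aeval (N : Mat) (X - C c))) :
    2 * (pord N * (Fintype.card F - 1)) + 1 ≤ Fintype.card F ^ d := by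
  classical
  have : Nonempty (Fin d) := ⟨⟨0, hd⟩⟩
  set q := Fintype.card F with hq'
  have hroot : ∀ c : F, c ≠ 0 → (minpoly F (N : Mat)).IsRoot c := by
    intro c hc
    by_contra hr
    have hco : IsCoprime (X - C c) (minpoly F (N : Mat)) :=
      (irreducible_X_sub_C c).coprime_iff_not_dvd.2 fun h => hr (dvd_iff_isRoot.1 h)
    obtain ⟨a, b, hab⟩ := hco
    have := congrArg (aeval (N : Mat)) hab
    rw [map_add, map_mul, map_mul, minpoly.aeval, mul_zero, add_zero, map_one] at this
    exact hall c hc (IsUnit.of_mul_eq_one _ ((Commute.all (X - C c) a).map (aeval (N : Mat)) |>.eq.trans this))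
  have hm0 : minpoly F (N : Mat) ≠ 0 := minpoly.ne_zero (Matrix.isIntegral _)
  have hqd : q - 1 ≤ d := by
    have h1 : (Finset.univ.erase (0 : F)).card ≤ (minpoly F (N : Mat)).natDegree := by
      refine Polynomial.card_le_degree_of_subset_roots fun c hc => ?_
      rw [mem_roots hm0]
      exact hroot c (Finset.ne_of_mem_erase hc)
    rw [Finset.card_erase_of_mem (Finset.mem_univ _), Finset.card_univ] at h1
    have h2 := natDegree_le_of_dvd (Matrix.minpoly_dvd_charpoly (N : Mat)) (charpoly_monic _).ne_zero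
    rw [charpoly_natDegree_eq_dim, Fintype.card_fin] at h2
    omega
  let T : Set (Fin d → F) := {v | ∀ c : F, c ≠ 0 → (ofVec v).eval c ≠ 0}
  have h4 := count_le N hd (fun _ : Unit => (1 : F[X])) (fun _ => by rw [map_one]; exact isUnit_one)
    (fun _ _ _ _ _ _ _ => rfl) T (by
      intro v hv c hc h0
      rw [← aeval_ofVec] at hv
      obtain ⟨Q, hQ⟩ := dvd_iff_isRoot.2 (show (ofVec v).IsRoot c from h0)
      rw [hQ, map_mul] at hv
      exact hall c hc (((Commute.all (X - C c) Q).map (aeval (N : Mat))).isUnit_mul_iff.1 hv).1)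
  rw [Nat.card_unique, one_mul] at h4
  have hinj : Function.Injective fun v : T =>
      ((fun c : Fˣ => Units.mk0 ((ofVec (v : Fin d → F)).eval (c : F)) (v.2 _ c.ne_zero)),
        fun i : Fin (d - (q - 1)) => (v : Fin d → F) ⟨q - 1 + i, by omega⟩) := by
    intro v w h
    simp only [Prod.mk.injEq] at h
    apply Subtype.ext
    set R := ofVec (v : Fin d → F) - ofVec (w : Fin d → F) with hR
    have hev : ∀ c ∈ Finset.univ.erase (0 : F), R.eval c = 0 := fun c hc => by
      rw [hR, eval_sub, sub_eq_zero]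
      exact congrArg Units.val (congrFun h.1 (Units.mk0 c (Finset.ne_of_mem_erase hc)))
    have hlt : R.degree < (Finset.univ.erase (0 : F)).card := by
      rw [Finset.card_erase_of_mem (Finset.mem_univ _), Finset.card_univ]
      refine (degree_lt_iff_coeff_zero _ _).2 fun s hs => ?_
      by_cases hsd : s < d
      · rw [hR, coeff_sub, show s = ((⟨s, hsd⟩ : Fin d) : ℕ) from rfl, ofVec_coeff, ofVec_coeff, sub_eq_zero]
        have := congrFun h.2 ⟨s - (q - 1), by omega⟩
        simpa [show q - 1 + (s - (q - 1)) = s by omega] using this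
      · have hne : ∀ i : Fin d, ¬ s = (i : ℕ) := fun i hi => hsd (hi ▸ i.2)
        simp [hR, ofVec, coeff_C_mul_X_pow, hne]
    have hR0 := eq_zero_of_degree_lt_of_eval_finset_eq_zero _ hlt hev
    funext i
    rw [← ofVec_coeff (v : Fin d → F) i, ← ofVec_coeff (w : Fin d → F) i]
    exact congrArg (fun P : F[X] => P.coeff i) (sub_eq_zero.1 hR0)
  have h5 := Nat.card_le_card_of_injective _ hinj
  rw [Nat.card_prod, Nat.card_fun, Nat.card_fun, Nat.card_units, Nat.card_eq_fintype_card (α := F),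
    Nat.card_fin] at h5
  have hb : 2 * (q - 1) ^ (q - 1) + 1 ≤ q ^ (q - 1) := by
    obtain ⟨r, hr⟩ : ∃ r, q = r + 3 := ⟨q - 3, by omega⟩
    rw [hr, show r + 3 - 1 = r + 2 by omega]
    have h1 : ∀ s : ℕ, (r + 2) ^ (s + 2) + (s + 2) * (r + 2) ^ (s + 1) + 1 ≤ (r + 3) ^ (s + 2) := by
      intro s
      induction s with
      | zero => simp [pow_two]; nlinarith
      | succ s ih =>
        calc (r + 2) ^ (s + 3) + (s + 3) * (r + 2) ^ (s + 2) + 1
            ≤ ((r + 2) ^ (s + 2) + (s + 2) * (r + 2) ^ (s + 1) + 1) * (r + 3) := by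
              rw [show (r + 2) ^ (s + 3) = (r + 2) ^ (s + 2) * (r + 2) by ring,
                show (r + 2) ^ (s + 2) = (r + 2) ^ (s + 1) * (r + 2) by ring]
              nlinarith [Nat.zero_le ((s + 2) * (r + 2) ^ (s + 1))]
          _ ≤ (r + 3) ^ (s + 3) := by rw [pow_succ (r + 3) (s + 2)]; exact Nat.mul_le_mul_right _ ih
    have := h1 r
    calc 2 * (r + 2) ^ (r + 2) + 1 = (r + 2) ^ (r + 2) + (r + 2) * (r + 2) ^ (r + 1) + 1 := by ring
      _ ≤ _ := this
  have h6 : 1 ≤ q ^ (d - (q - 1)) := Nat.one_le_pow _ _ (by omega)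
  calc 2 * (pord N * (q - 1)) + 1 ≤ 2 * ((q - 1) ^ (q - 1) * q ^ (d - (q - 1))) + q ^ (d - (q - 1)) :=
        Nat.add_le_add (Nat.mul_le_mul_left 2 (h4.trans h5)) h6
    _ = (2 * (q - 1) ^ (q - 1) + 1) * q ^ (d - (q - 1)) := by ring
    _ ≤ q ^ (q - 1) * q ^ (d - (q - 1)) := Nat.mul_le_mul_right _ hb
    _ = q ^ d := by rw [← pow_add]; congr 1; omega

/-- The case of two elements. -/
theorem count_two (hd : 3 ≤ d) (hq : Fintype.card F = 2) (h1 : ¬ IsUnit (aeval (N : Mat) (X - C (1 : F))))
    (h2 : ¬ IsUnit (aeval (N : Mat) (X ^ 2 + X + 1 : F[X]))) :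
    2 * (pord N * (Fintype.card F - 1)) + 1 ≤ Fintype.card F ^ d := by
  classical
  have h01 : ∀ x : F, x = 0 ∨ x = 1 := by
    intro x
    by_contra! h
    have := Finset.card_le_univ ({0, 1, x} : Finset F)
    rw [hq, Finset.card_eq_three.2 ⟨0, 1, x, zero_ne_one, h.1.symm, h.2.symm, rfl⟩] at this
    omega
  have htwo : (1 : F) + 1 = 0 := (h01 (1 + 1)).resolve_right (by simp)
  let w : (Fin d → F) → Fin 3 → F := fun v s => ∑ i ∈ Finset.univ.filter (fun i : Fin d => (i : ℕ) % 3 = (s : ℕ)), v i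
  let T : Set (Fin d → F) := {v | w v 0 + w v 1 + w v 2 ≠ 0 ∧ ¬ (w v 0 = 1 ∧ w v 1 = 1 ∧ w v 2 = 1)}
  have hcases : ∀ x : Fin 3 → F, x 0 + x 1 + x 2 ≠ 0 → ¬ (x 0 = 1 ∧ x 1 = 1 ∧ x 2 = 1) →
      ∃ s : Fin 3, x = Pi.single s 1 := by
    intro x ha hb
    rcases h01 (x 0) with e0 | e0 <;> rcases h01 (x 1) with e1 | e1 <;> rcases h01 (x 2) with e2 | e2 <;>
      rw [e0, e1, e2] at ha hb <;> simp [htwo] at ha hb <;>
      first
        | (refine ⟨0, funext fun s => ?_⟩; fin_cases s <;> simp [e0, e1, e2] <;> done)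
        | (refine ⟨1, funext fun s => ?_⟩; fin_cases s <;> simp [e0, e1, e2] <;> done)
        | (refine ⟨2, funext fun s => ?_⟩; fin_cases s <;> simp [e0, e1, e2] <;> done)
  have h4 := count_le N (by omega) (fun _ : Unit => (1 : F[X])) (fun _ => by rw [map_one]; exact isUnit_one)
    (fun _ _ _ _ _ _ _ => rfl) T (by
      intro v hv
      rw [← aeval_ofVec] at hv
      have hdvd : ∀ D : F[X], D ∣ ofVec v → ¬ IsUnit (aeval (N : Mat) D) → False := fun D hD hn => by
        obtain ⟨Q, hQ⟩ := hD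
        rw [hQ, map_mul] at hv
        exact hn (((Commute.all D Q).map (aeval (N : Mat))).isUnit_mul_iff.1 hv).1
      have hR : (X ^ 3 - 1 : F[X]) ∣ ofVec v - (C (w v 0) + C (w v 1) * X + C (w v 2) * X ^ 2) := by
        have he : C (w v 0) + C (w v 1) * X + C (w v 2) * X ^ 2 =
            ∑ i, C (v i) * X ^ ((i : ℕ) % 3) := by
          rw [← Finset.sum_fiberwise Finset.univ (fun i : Fin d => (⟨(i : ℕ) % 3, Nat.mod_lt _ (by norm_num)⟩ : Fin 3)),
            Fin.sum_univ_three]
          have : ∀ s : Fin 3, ∑ i ∈ Finset.univ.filter (fun i : Fin d => (⟨(i : ℕ) % 3, Nat.mod_lt _ (by norm_num)⟩ : Fin 3) = s),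
              C (v i) * X ^ ((i : ℕ) % 3) = C (w v s) * X ^ (s : ℕ) := by
            intro s
            simp only [w, map_sum, Finset.sum_mul, Fin.ext_iff]
            refine Finset.sum_congr rfl fun i hi => ?_
            rw [(Finset.mem_filter.1 hi).2]
          rw [this, this, this]
          simp
        rw [he, ofVec, ← Finset.sum_sub_distrib]
        refine Finset.dvd_sum fun i _ => ?_
        rw [← mul_sub]
        refine Dvd.dvd.mul_left ?_ _
        conv_rhs => arg 1; rw [← Nat.mod_add_div (i : ℕ) 3]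
        rw [pow_add, ← mul_sub_one, pow_mul]
        exact Dvd.dvd.mul_left (sub_one_dvd_pow_sub_one _ _) _
      refine ⟨fun h0 => hdvd (X - C 1) ?_ h1, fun h111 => hdvd (X ^ 2 + X + 1) ?_ h2⟩
      · have e : (X - C (1 : F)) ∣ C (w v 0) + C (w v 1) * X + C (w v 2) * X ^ 2 :=
          dvd_iff_isRoot.2 (by simpa using h0)
        have e' : (X - C (1 : F)) ∣ ofVec v - (C (w v 0) + C (w v 1) * X + C (w v 2) * X ^ 2) :=
          (Dvd.intro (X ^ 2 + X + 1) (by simp only [map_one]; ring)).trans hR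
        simpa using dvd_add e' e
      · rw [h111.1, h111.2.1, h111.2.2, map_one, one_mul, one_mul] at hR
        have e' := (Dvd.intro_left (X - 1) (show (X - 1) * (X ^ 2 + X + 1) = (X ^ 3 - 1 : F[X]) by ring)).trans hR
        have := dvd_add e' (dvd_rfl (a := (X ^ 2 + X + 1 : F[X])))
        rwa [show ofVec v - (1 + X + X ^ 2) + (X ^ 2 + X + 1) = ofVec v by ring] at this)
  rw [Nat.card_unique, one_mul] at h4
  choose sel hsel using fun v : T => hcases (w (v : Fin d → F)) v.2.1 v.2.2
  have hinj : Function.Injective fun v : T =>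
      (sel v, fun i : Fin (d - 3) => (v : Fin d → F) ⟨3 + i, by omega⟩) := by
    intro v u h
    simp only [Prod.mk.injEq] at h
    apply Subtype.ext
    have htail : ∀ i : Fin d, 3 ≤ (i : ℕ) → (v : Fin d → F) i = (u : Fin d → F) i := fun i hi => by
      have := congrFun h.2 ⟨(i : ℕ) - 3, by omega⟩
      simpa [show 3 + ((i : ℕ) - 3) = (i : ℕ) by omega] using this
    funext i
    by_cases hi : 3 ≤ (i : ℕ)
    · exact htail i hi
    have hw : w (v : Fin d → F) ⟨i, by omega⟩ = w (u : Fin d → F) ⟨i, by omega⟩ := by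
      rw [hsel v, hsel u, h.1]
    simp only [w] at hw
    rw [← Finset.add_sum_erase _ _ (show i ∈ Finset.univ.filter (fun j : Fin d => (j : ℕ) % 3 = (i : ℕ)) by
        simp; omega),
      ← Finset.add_sum_erase _ (u : Fin d → F) (show i ∈ Finset.univ.filter (fun j : Fin d => (j : ℕ) % 3 = (i : ℕ)) by
        simp; omega),
      Finset.sum_congr rfl (fun j hj => htail j (by
        simp only [Finset.mem_erase, Finset.mem_filter] at hj
        by_contra hj3
        exact hj.1 (Fin.ext (by omega))))] at hw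
    exact add_right_cancel hw
  have h5 := Nat.card_le_card_of_injective _ hinj
  rw [Nat.card_prod, Nat.card_fin, Nat.card_fun, Nat.card_fin, Nat.card_eq_fintype_card (α := F), hq] at h5
  rw [hq] at h4 ⊢
  have : 2 ^ d = 8 * 2 ^ (d - 3) := by
    conv_lhs => rw [show d = 3 + (d - 3) by omega, pow_add]
    norm_num
  have := Nat.one_le_two_pow (n := d - 3)
  omega

theorem natDegree_minpoly_le : (minpoly F (N : Mat)).natDegree ≤ d := by
  have h := natDegree_le_of_dvd (Matrix.minpoly_dvd_charpoly (N : Mat)) (charpoly_monic _).ne_zero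
  rwa [charpoly_natDegree_eq_dim, Fintype.card_fin] at h

set_option maxHeartbeats 800000 in
/-- The halved bound. -/
theorem pord_half (hd : 3 ≤ d) (hex : ¬ (d = 3 ∧ Fintype.card F = 2)) (θ : F →+* F)
    (hrel : ∀ P : F[X], aeval (N : Mat) P = 0 → aeval ((N⁻¹ : GL (Fin d) F) : Mat) (P.map θ) = 0) :
    2 * (pord N * (Fintype.card F - 1)) + 1 ≤ Fintype.card F ^ d := by
  classical
  have : Nonempty (Fin d) := ⟨⟨0, by omega⟩⟩
  set q := Fintype.card F with hq
  have hq2 : 2 ≤ q := Fintype.one_lt_card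
  set m := minpoly F (N : Mat) with hm
  set Ni := ((N⁻¹ : GL (Fin d) F) : Mat)
  rcases lt_or_eq_of_le (natDegree_minpoly_le N) with hk | hk
  · obtain ⟨p, hp1, hp2, hp3⟩ := lifts_and_natDegree_eq_and_monic
      (show m ∈ lifts (⊤ : Subfield F).subtype from (lifts_iff_coeff_lifts _).2 fun i => ⟨⟨_, trivial⟩, rfl⟩)
      (minpoly.monic (Matrix.isIntegral _))
    have h := pord_le N p (k := d - 1) (by omega) hp3 (by rw [hp2, hm]; omega) (by rw [hp1, hm, minpoly.aeval])
    rw [Nat.card_congr (Subfield.topEquiv (K := F)).toEquiv, Nat.card_eq_fintype_card, ← hq] at h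
    have h1 : q ^ d = q * q ^ (d - 1) := by rw [← pow_succ']; congr 1; omega
    have h2 : 2 * q ^ (d - 1) ≤ q * q ^ (d - 1) := Nat.mul_le_mul_right _ hq2
    omega
  have small : ∀ P : F[X], P.natDegree < 3 → aeval (N : Mat) P = 0 → P = 0 := by
    intro P hP h0
    by_contra hne
    have h1 := natDegree_le_of_dvd (minpoly.dvd F (N : Mat) h0) hne
    omega
  have double : ∀ y : F[X], IsUnit (aeval (N : Mat) y) →
      (∀ (s : ℕ) (l : F), l ≠ 0 → aeval (N : Mat) y ≠ l • (N : Mat) ^ s) →
      2 * (pord N * (q - 1)) + 1 ≤ q ^ d := by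
    intro y hy hne
    have hne' : ∀ (i i' : Fin (pord N)) (u u' : Fˣ),
        aeval (N : Mat) (C (u : F) * X ^ (i : ℕ)) ≠ aeval (N : Mat) (y * (C (u' : F) * X ^ (i' : ℕ))) := by
      intro i i' u u' h
      rw [map_mul (aeval (N : Mat)) y, val_pow_mul_scalar, val_pow_mul_scalar, Matrix.mul_smul] at h
      refine hne ((i : ℕ) + (orderOf N - 1) * (i' : ℕ)) ((u : F) / u')
        (div_ne_zero u.ne_zero u'.ne_zero) ?_
      have h1 := congrArg (fun M : Mat => (u' : F)⁻¹ • (M * ((N ^ ((orderOf N - 1) * (i' : ℕ)) : GL (Fin d) F) : Mat))) h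
      simp only [Matrix.smul_mul, smul_smul, inv_mul_cancel₀ u'.ne_zero, one_smul, Matrix.mul_assoc,
        ← Units.val_mul, ← pow_add] at h1
      rw [show (i' : ℕ) + (orderOf N - 1) * (i' : ℕ) = orderOf N * (i' : ℕ) by
          obtain ⟨o, ho⟩ : ∃ o, orderOf N = o + 1 := ⟨orderOf N - 1, by have := orderOf_pos N; omega⟩
          rw [ho, Nat.add_sub_cancel]; ring, pow_mul, pow_orderOf_eq_one, one_pow, Units.val_one, Matrix.mul_one] at h1
      rw [← h1, div_eq_inv_mul, Units.val_pow_eq_pow_val]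
    have h4 := count_le N (by omega) (fun b : Bool => if b then y else 1)
      (fun b => by cases b <;> simp [hy])
      (fun a b i i' u u' h => by
        rcases a with _ | _ <;> rcases b with _ | _
        · rfl
        · rw [if_neg Bool.false_ne_true, if_pos rfl, one_mul] at h
          exact absurd h (hne' i i' u u')
        · rw [if_neg Bool.false_ne_true, if_pos rfl, one_mul] at h
          exact absurd h.symm (hne' i' i u' u)
        · rfl)
      ({0}ᶜ : Set (Fin d → F)) (fun v hv => mem_compl_zero N (by omega) v hv)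
    rw [card_ne_zero_vec, Nat.card_eq_fintype_card, Fintype.card_bool, ← hq] at h4
    have : 0 < q ^ d := Nat.pow_pos (by omega)
    omega
  have relation : ∀ (y : F[X]) (s : ℕ) (l : F), aeval (N : Mat) y = l • (N : Mat) ^ s →
      aeval (N : Mat) y * aeval Ni (y.map θ) = (l * θ l) • (1 : Mat) := by
    intro y s l h
    have h0 := hrel (y - C l * X ^ s) (by
      rw [map_sub, h, val_pow_mul_scalar, Units.val_pow_eq_pow_val, sub_self])
    rw [Polynomial.map_sub, Polynomial.map_mul, map_C, Polynomial.map_pow, map_X, map_sub,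
      val_pow_mul_scalar, sub_eq_zero] at h0
    rw [h, h0, Matrix.smul_mul, Matrix.mul_smul, smul_smul, ← Units.val_pow_eq_pow_val, ← Units.val_mul,
      inv_pow, mul_inv_cancel, Units.val_one]
  have hNi : Ni * (N : Mat) = 1 := by rw [← Units.val_mul, inv_mul_cancel, Units.val_one]
  by_cases hex1 : ∃ c : F, c ≠ 0 ∧ IsUnit (aeval (N : Mat) (X - C c))
  · obtain ⟨c, hc, hcu⟩ := hex1
    refine double _ hcu fun s l _ h => hc ?_
    have h1 := congrArg (fun M : Mat => M * (N : Mat)) (relation _ s l h)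
    simp only [Polynomial.map_sub, map_X, map_C, map_sub, aeval_X, aeval_C, Algebra.algebraMap_eq_smul_one,
      Matrix.mul_assoc, Matrix.sub_mul, Matrix.mul_sub, Matrix.smul_mul, Matrix.mul_smul, Matrix.one_mul,
      Matrix.mul_one, smul_smul, smul_sub, hNi] at h1
    have h2 := small (C (1 + c * θ c - l * θ l) * X - C (θ c) * X ^ 2 - C c) (by compute_degree!) (by
      simp only [map_sub, map_mul, map_pow, map_add, map_one, aeval_X, aeval_C,
        Algebra.algebraMap_eq_smul_one, sq, Matrix.sub_mul, Matrix.add_mul, Matrix.smul_mul, Matrix.one_mul,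
        smul_smul]
      rw [← sub_eq_zero.2 h1]
      module)
    have := congrArg (fun P : F[X] => P.coeff 0) h2
    simpa using this
  push Not at hex1
  by_cases hq3 : 3 ≤ q
  · exact count_roots N (by omega) hq3 hex1
  have hq2' : q = 2 := by omega
  have hd4 : 4 ≤ d := by omega
  by_cases h4 : (N : Mat) ^ 4 = 1
  · have hp4 : pord N ≤ 4 := Nat.le_of_dvd (by norm_num) (orderOf_dvd_of_pow_eq_one (by
      rw [← QuotientGroup.mk_pow, show N ^ 4 = 1 from Units.ext (by rw [Units.val_pow_eq_pow_val, h4]; rfl)]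
      rfl))
    have := Nat.pow_le_pow_right (show 2 > 0 by norm_num) hd4
    rw [hq2']
    omega
  by_cases hy : IsUnit (aeval (N : Mat) (X ^ 2 + X + 1 : F[X]))
  · refine double _ hy fun s l hl h => h4 ?_
    have h1 := relation _ s l h
    have hone : ∀ x : F, x ≠ 0 → x = 1 := by
      intro x hx
      by_contra h1
      have := Finset.card_le_univ ({0, 1, x} : Finset F)
      rw [← hq, hq2', Finset.card_eq_three.2 ⟨0, 1, x, zero_ne_one, hx.symm, Ne.symm h1, rfl⟩] at this
      omega
    rw [hone _ hl, map_one, mul_one, one_smul] at h1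
    have h2 := congrArg (fun M : Mat => M * ((N : Mat) * (N : Mat))) h1
    simp only [Polynomial.map_add, Polynomial.map_pow, map_X, Polynomial.map_one, map_add, map_pow, map_one,
      aeval_X, sq, map_mul, Polynomial.map_mul, Matrix.mul_assoc, Matrix.one_mul] at h2
    rw [show (Ni * Ni + Ni + 1) * ((N : Mat) * (N : Mat)) = 1 + (N : Mat) + (N : Mat) * (N : Mat) by
      rw [Matrix.add_mul, Matrix.add_mul, Matrix.one_mul, Matrix.mul_assoc, ← Matrix.mul_assoc Ni (N : Mat),
        hNi, Matrix.one_mul, hNi]] at h2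
    have htwo : (2 : F) = 0 := by
      by_contra h
      exact one_ne_zero (show (1 : F) = 0 by have := hone 2 h; linear_combination this)
    have hM2 : ∀ M : Mat, M + M = 0 := fun M => by rw [← two_smul F, htwo, zero_smul]
    set Nm := (N : Mat)
    have e : (Nm * Nm + Nm + 1) * (1 + Nm + Nm * Nm) =
        Nm ^ 4 + (Nm * Nm * Nm + Nm * Nm * Nm) + (Nm * Nm + Nm * Nm) + Nm * Nm + (Nm + Nm) + 1 := by
      noncomm_ring
    rw [e, hM2, hM2, hM2, add_zero, add_zero, add_zero] at h2
    have h3 : Nm ^ 4 + 1 = 0 := by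
      calc Nm ^ 4 + 1 = Nm ^ 4 + Nm * Nm + 1 - Nm * Nm := by abel
        _ = 0 := by rw [h2, sub_self]
    rw [← add_left_inj (1 : Mat), h3, hM2]
  · exact count_two N (by omega) hq2' (hex1 1 one_ne_zero) hy

end Half

end Cfsg.Agent.Lib.AutPSLOrder
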