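import Cfsg.Agent.Lib.AutPSLOrder.Count
import Cfsg.Agent.Lib.AutPSL.Card
import Cfsg.Agent.S2261

/-!
# The largest order of an automorphism of `PSL_d(q)`

For `φ = conjAut g * ψ` and `ψ ^ n = 1` the power `φ ^ n` is conjugation by an element `N` fixed by
`a ↦ g * τ a * g⁻¹`; hence its minimal polynomial has coefficients in a fixed field.
-/

set_option autoImplicit false

namespace Cfsg.Agent.Lib.AutPSLOrder

open Polynomial Matrix
open Cfsg.Agent.Lib.AutPSL
open scoped MatrixGroups

variable {F : Type*} [Field F] {d : ℕ}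

local notation "Mat" => Matrix (Fin d) (Fin d) F
local notation "PSLd" => Matrix.ProjectiveSpecialLinearGroup (Fin d) F

theorem sum_two {Q : ℕ} (hQ : 2 ≤ Q) : ∀ e, 1 ≤ e → ¬ (Q = 2 ∧ e = 2) → e * (1 + Q) ≤ 1 + Q ^ e := by
  intro e
  induction e with
  | zero => omega
  | succ e ih =>
    intro _ hne
    rcases Nat.lt_or_ge e 2 with h | h
    · rcases e with _ | _ | e
      · simp
      · rcases Nat.lt_or_ge Q 3 with hq | hq
        · exact absurd ⟨by omega, rfl⟩ hne
        · norm_num; nlinarith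
      · omega
    rcases eq_or_ne (Q, e) (2, 2) with h22 | h22
    · obtain ⟨rfl, rfl⟩ := Prod.mk.injEq _ _ _ _ ▸ h22
      norm_num
    have := ih (by omega) (fun h' => h22 (by rw [h'.1, h'.2]))
    have h1 : Q + 2 ≤ Q ^ e + 1 := by
      have : Q ^ 2 ≤ Q ^ e := Nat.pow_le_pow_right (by omega) h
      nlinarith
    have h2 : 2 * Q ^ e ≤ Q ^ (e + 1) := by rw [pow_succ']; exact Nat.mul_le_mul_right _ hQ
    nlinarith

/-- The geometric sum. -/
def geom (Q d : ℕ) : ℕ := ∑ i ∈ Finset.range d, Q ^ i

theorem geom_mul {Q : ℕ} (hQ : 1 ≤ Q) (d : ℕ) : geom Q d * (Q - 1) + 1 = Q ^ d := by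
  induction d with
  | zero => simp [geom]
  | succ d ih =>
    rw [geom, Finset.sum_range_succ, ← geom, pow_succ]
    obtain ⟨r, rfl⟩ : ∃ r, Q = r + 1 := ⟨Q - 1, by omega⟩
    simp only [Nat.add_sub_cancel] at ih ⊢
    nlinarith

theorem geom_mono {Q e c d₀ : ℕ} (hQ : 2 ≤ Q) (he : 1 ≤ e) (hc : c ≤ 1 ∨ (2 ≤ e ∧ c ≤ 2 * e)) (hd₀ : 2 ≤ d₀)
    (hbase : c * geom Q d₀ ≤ geom (Q ^ e) d₀) : ∀ d, d₀ ≤ d → c * geom Q d ≤ geom (Q ^ e) d := by
  intro d hd
  induction d, hd using Nat.le_induction with
  | base => exact hbase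
  | succ d hd ih =>
    simp only [geom, Finset.sum_range_succ, mul_add]
    refine Nat.add_le_add ih ?_
    rw [← pow_mul]
    rcases hc with hc | ⟨he2, hc⟩
    · calc c * Q ^ d ≤ 1 * Q ^ d := Nat.mul_le_mul_right _ hc
        _ ≤ Q ^ (e * d) := by rw [one_mul]; exact Nat.pow_le_pow_right (by omega) (Nat.le_mul_of_pos_left _ he)
    · calc c * Q ^ d ≤ Q ^ (2 * (e - 1)) * Q ^ d := by
            refine Nat.mul_le_mul_right _ (hc.trans ?_)
            calc 2 * e ≤ 4 ^ (e - 1) := by
                  obtain ⟨r, rfl⟩ : ∃ r, e = r + 2 := ⟨e - 2, by omega⟩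
                  clear hc hbase ih he he2
                  induction r with
                  | zero => norm_num
                  | succ r ihr =>
                    rw [show r + 1 + 2 - 1 = (r + 2 - 1) + 1 by omega, pow_succ]
                    omega
              _ ≤ (Q ^ 2) ^ (e - 1) := Nat.pow_le_pow_left (by nlinarith) _
              _ = Q ^ (2 * (e - 1)) := by rw [← pow_mul]
        _ ≤ Q ^ (e * d) := by
            rw [← pow_add]
            refine Nat.pow_le_pow_right (by omega) ?_
            obtain ⟨r, rfl⟩ : ∃ r, e = r + 1 := ⟨e - 1, by omega⟩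
            simp only [Nat.add_sub_cancel]
            nlinarith

theorem fixedField [Fintype F] (σ : F ≃+* F) :
    ∃ K : Subfield F, (∀ x : F, σ x = x → x ∈ K) ∧ Fintype.card F = Nat.card K ^ orderOf σ := by
  classical
  have : Finite (F ≃+* F) := Finite.of_injective (fun s => (s : F → F)) DFunLike.coe_injective
  let G := Subgroup.zpowers σ
  have : Fintype G := Fintype.ofFinite G
  refine ⟨FixedPoints.subfield G F, fun x hx => ?_, ?_⟩
  · rintro ⟨g, hg⟩
    obtain ⟨n, rfl⟩ := mem_zpowers_iff_mem_range_orderOf.1 hg |> Finset.mem_image.1 |>.imp (fun n h => h.2)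
    show (σ ^ n) x = x
    induction n with
    | zero => rfl
    | succ n ih => rw [pow_succ, RingAut.mul_apply, hx, ih (Subgroup.npow_mem_zpowers σ n)]
  · have h1 := FixedPoints.finrank_eq_card G F
    have h2 := Module.natCard_eq_pow_finrank (K := FixedPoints.subfield G F) (V := F)
    rw [h1, Nat.card_eq_fintype_card (α := F)] at h2
    rw [h2]
    congr 1
    rw [← Nat.card_eq_fintype_card, Nat.card_zpowers]

/-- Inverse transpose as a homomorphism. -/
def glInvTHom : GL (Fin d) F →* GL (Fin d) F where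
  toFun := glInvT
  map_one' := Units.ext (by simp [glInvT])
  map_mul' a b := Units.ext (by
    simp only [glInvT, _root_.mul_inv_rev, Units.val_mul, Matrix.transpose_mul])

theorem coe_glMap (σ : F →+* F) (a : GL (Fin d) F) :
    ((GeneralLinearGroup.map σ a : GL (Fin d) F) : Mat) = (a : Mat).map σ := rfl

theorem glMap_glInvT (σ : F ≃+* F) (a : GL (Fin d) F) :
    GeneralLinearGroup.map σ.toRingHom (glInvT a) = glInvT (GeneralLinearGroup.map σ.toRingHom a) := by
  apply Units.ext
  rw [coe_glMap]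
  show (((a⁻¹ : GL (Fin d) F) : Mat)ᵀ).map _ = _ᵀ
  rw [← map_inv, coe_glMap, Matrix.transpose_map]

/-- Powers of an automorphism. -/
theorem exists_norm (g : GL (Fin d) F) (ψ : MulAut PSLd) (τ : GL (Fin d) F →* GL (Fin d) F)
    (hψ : ∀ a, ψ * conjAut a = conjAut (τ a) * ψ) (n : ℕ) (hn : ψ ^ n = 1) (hτ : ∀ a, (⇑τ)^[n] a = a) :
    ∃ N : GL (Fin d) F, g * τ N * g⁻¹ = N ∧ (conjAut g * ψ) ^ n = conjAut N := by
  let w : ℕ → GL (Fin d) F := fun k => Nat.rec 1 (fun _ a => g * τ a) k
  have hw : ∀ k, (conjAut g * ψ) ^ k = conjAut (w k) * ψ ^ k := by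
    intro k
    induction k with
    | zero => simp [w]
    | succ k ih =>
      rw [pow_succ', ih, mul_assoc, ← mul_assoc ψ, hψ, mul_assoc (conjAut (τ (w k))), ← pow_succ',
        ← mul_assoc, ← map_mul]
  have hr : ∀ k, w (k + 1) = w k * (⇑τ)^[k] g := by
    intro k
    induction k with
    | zero => simp [w]
    | succ k ih =>
      show g * τ (w (k + 1)) = _
      conv_lhs => rw [ih, map_mul, ← mul_assoc]
      rw [Function.iterate_succ_apply']
  refine ⟨w n, ?_, by rw [hw, hn, mul_one]⟩
  have h := hr n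
  rw [hτ] at h
  rw [mul_inv_eq_iff_eq_mul]
  exact h

/-- An automorphism whose power is an inner-diagonal automorphism. -/
theorem order_le [Finite F] {φ : MulAut PSLd} {N : GL (Fin d) F} {n : ℕ} (hn : 0 < n) (h : φ ^ n = conjAut N) :
    orderOf φ ≤ n * pord N := by
  refine orderOf_le_of_pow_eq_one (Nat.mul_pos hn (pord_pos N)) ?_
  rw [pow_mul, h, ← map_pow]
  exact conjAut_eq_one_of_center (pow_pord_mem N)

theorem aeval_glMap (σ : F →+* F) (a : GL (Fin d) F) (P : F[X]) :
    aeval ((GeneralLinearGroup.map σ a : GL (Fin d) F) : Mat) (P.map σ) = (aeval (a : Mat) P).map σ := by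
  rw [coe_glMap]
  have := Polynomial.map_aeval_eq_aeval_map (R := F) (S := Mat) (T := F) (U := Mat) (φ := σ) (ψ := σ.mapMatrix)
    (by ext r i j; by_cases hij : i = j <;> simp [hij, Matrix.algebraMap_matrix_apply]) P (a : Mat)
  exact this.symm

theorem aeval_conj (g a : GL (Fin d) F) (P : F[X]) :
    aeval ((g * a * g⁻¹ : GL (Fin d) F) : Mat) P = (g : Mat) * aeval (a : Mat) P * ((g⁻¹ : GL (Fin d) F) : Mat) := by
  induction P using Polynomial.induction_on' with
  | add p r hp hr => rw [map_add, map_add, hp, hr, Matrix.mul_add, Matrix.add_mul]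
  | monomial s c =>
    rw [aeval_monomial, aeval_monomial, ← Algebra.smul_def, ← Algebra.smul_def, Matrix.mul_smul,
      Matrix.smul_mul, ← Units.val_pow_eq_pow_val, ← Units.val_pow_eq_pow_val, conj_pow, Units.val_mul,
      Units.val_mul]

/-- The bound over a fixed field. -/
theorem pord_le_fixed [Fintype F] (hd : 0 < d) (N h : GL (Fin d) F) (σ : F ≃+* F)
    (hN : h * GeneralLinearGroup.map σ.toRingHom N * h⁻¹ = N) (K : Subfield F) (hK : ∀ x : F, σ x = x → x ∈ K) :
    pord N ≤ geom (Nat.card K) d := by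
  classical
  have : Nonempty (Fin d) := ⟨⟨0, hd⟩⟩
  set m := minpoly F (N : Mat)
  have hfix : m.map σ.toRingHom = m := by
    refine minpoly.unique F (N : Mat) ((minpoly.monic (Matrix.isIntegral _)).map _) ?_ fun q hq hq0 => ?_
    · conv_lhs => rw [← hN]
      rw [aeval_conj, aeval_glMap, minpoly.aeval]
      simp
    · rw [Polynomial.degree_map]
      exact minpoly.min F _ hq hq0
  obtain ⟨p, hp1, hp2, hp3⟩ := lifts_and_natDegree_eq_and_monic
    (show m ∈ lifts K.subtype from (lifts_iff_coeff_lifts _).2 fun i => ⟨⟨_, hK (m.coeff i) (by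
      conv_rhs => rw [← hfix]
      rw [coeff_map]; rfl)⟩, rfl⟩) (minpoly.monic (Matrix.isIntegral _))
  have h := pord_le N p (k := d) hd hp3 (hp2 ▸ natDegree_minpoly_le N) (by rw [hp1, minpoly.aeval])
  have h1 : 2 ≤ Nat.card K := Finite.one_lt_card
  have h2 := geom_mul (Q := Nat.card K) (by omega) d
  exact Nat.le_of_mul_le_mul_right (by omega) (show 0 < Nat.card K - 1 by omega)

theorem final_of_geom {q n j : ℕ} (hq : 2 ≤ q) {o : ℕ} (ho : o ≤ n * j) (h : n * j ≤ geom q d) :
    (q - 1) * o ≤ q ^ d - 1 := by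
  have h1 := geom_mul (Q := q) (by omega) d
  calc (q - 1) * o ≤ (q - 1) * geom q d := Nat.mul_le_mul_left _ (ho.trans h)
    _ = q ^ d - 1 := by rw [mul_comm]; omega

/-- The upper bound. -/
theorem upper [Fintype F] (hd : 2 ≤ d) (h24 : ¬ (d = 2 ∧ Fintype.card F = 4))
    (h32 : ¬ (d = 3 ∧ Fintype.card F = 2)) (φ : MulAut PSLd) :
    (Fintype.card F - 1) * orderOf φ ≤ Fintype.card F ^ d - 1 := by
  classical
  have : Finite (F ≃+* F) := Finite.of_injective (fun s => (s : F → F)) DFunLike.coe_injective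
  set q := Fintype.card F with hq
  have hq2 : 2 ≤ q := Fintype.one_lt_card
  obtain ⟨g, σ, γ, hγ, rfl⟩ := exists_decomp hd φ
  have hiter : ∀ (ρ : F ≃+* F) (k : ℕ) (a : GL (Fin d) F), (⇑(GeneralLinearGroup.map (n := Fin d) ρ.toRingHom))^[k] a =
      GeneralLinearGroup.map (ρ ^ k).toRingHom a := by
    intro ρ k a
    induction k with
    | zero => exact Units.ext rfl
    | succ k ih =>
      rw [Function.iterate_succ_apply', ih, pow_succ']
      exact Units.ext rfl
  rcases hγ with rfl | ⟨hd3, rfl⟩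
  · rw [mul_one]
    obtain ⟨K, hK, hcard⟩ := fixedField σ
    obtain ⟨N, hN, hpow⟩ := exists_norm g (fieldAut σ) (GeneralLinearGroup.map σ.toRingHom)
      (fun a => fieldAut_mul_conjAut σ a) (orderOf σ) (by rw [← map_pow, pow_orderOf_eq_one, map_one])
      (fun a => by rw [hiter, pow_orderOf_eq_one]; exact Units.ext rfl)
    refine final_of_geom hq2 (order_le (orderOf_pos σ) hpow) ?_
    have h1 : 2 ≤ Nat.card K := Finite.one_lt_card
    refine (Nat.mul_le_mul_left _ (pord_le_fixed (by omega) N g σ hN K hK)).trans ?_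
    rw [hq, hcard]
    rcases Nat.lt_or_ge (orderOf σ) 2 with he | he
    · rw [show orderOf σ = 1 by have := orderOf_pos σ; omega, pow_one, one_mul]
    by_cases h22 : Nat.card K = 2 ∧ orderOf σ = 2
    · have hd3 : 3 ≤ d := by
        by_contra hlt
        exact h24 ⟨by omega, by rw [hq, hcard, h22.1, h22.2]; norm_num⟩
      refine geom_mono h1 (by omega) (Or.inr ⟨he, by omega⟩) (by norm_num) ?_ d hd3
      rw [h22.1, h22.2]
      simp [geom, Finset.sum_range_succ]
    · refine geom_mono h1 (by omega) (Or.inr ⟨he, by omega⟩) le_rfl ?_ d hd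
      simp only [geom, Finset.sum_range_succ, Finset.sum_range_zero, pow_zero, pow_one, zero_add]
      exact sum_two h1 _ (by omega) h22
  · set τ := (GeneralLinearGroup.map σ.toRingHom).comp (glInvTHom (d := d) (F := F)) with hτ
    have hψ : ∀ a, fieldAut σ * invT * conjAut a = conjAut (τ a) * (fieldAut σ * invT) := by
      intro a
      rw [mul_assoc, invT_mul_conjAut, ← mul_assoc, fieldAut_mul_conjAut, mul_assoc]
      rfl
    have hτ2 : ∀ a, τ (τ a) = GeneralLinearGroup.map (σ ^ 2).toRingHom a := by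
      intro a
      show GeneralLinearGroup.map σ.toRingHom (glInvT (GeneralLinearGroup.map σ.toRingHom (glInvT a))) = _
      rw [← glMap_glInvT]
      apply Units.ext
      rw [coe_glMap, coe_glMap, coe_glMap, Matrix.map_map]
      show (((a : GL (Fin d) F) : Mat)ᵀᵀ).map _ = _
      rw [Matrix.transpose_transpose]
      ext i j; rfl
    set k := orderOf (σ ^ 2) with hk
    have hk0 : 0 < k := orderOf_pos _
    have hψn : (fieldAut σ * invT : MulAut PSLd) ^ (2 * k) = 1 := by
      rw [(show Commute (fieldAut σ : MulAut PSLd) invT from fieldAut_mul_invT σ).mul_pow, ← map_pow, pow_mul,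
        pow_mul, pow_orderOf_eq_one, map_one, one_mul, sq, invT_mul_self, one_pow]
    have hτn : ∀ a, (⇑τ)^[2 * k] a = a := by
      intro a
      rw [Function.iterate_mul, show (⇑τ)^[2] = ⇑(GeneralLinearGroup.map (n := Fin d) (σ ^ 2).toRingHom) from funext hτ2,
        hiter, pow_orderOf_eq_one]
      exact Units.ext rfl
    obtain ⟨N, hN, hpow⟩ := exists_norm g (fieldAut σ * invT) τ hψ (2 * k) hψn hτn
    rw [← mul_assoc] at hpow
    have hord := order_le (by omega) hpow
    rcases Nat.lt_or_ge k 2 with hk1 | hk2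
    · have hk1' : k = 1 := by omega
      have hrel : ∀ P : F[X], aeval (N : Mat) P = 0 →
          aeval ((N⁻¹ : GL (Fin d) F) : Mat) (P.map σ.toRingHom) = 0 := by
        intro P hP
        have h1 := aeval_glMap σ.toRingHom N P
        rw [hP, Matrix.map_zero _ (map_zero _)] at h1
        have h2 : ∀ (Q : F[X]) (M : Mat), aeval Mᵀ Q = (aeval M Q)ᵀ := by
          intro Q M
          induction Q using Polynomial.induction_on' with
          | add p r hp hr => rw [map_add, map_add, hp, hr, Matrix.transpose_add]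
          | monomial s c =>
            rw [aeval_monomial, aeval_monomial, ← Algebra.smul_def, ← Algebra.smul_def, Matrix.transpose_smul,
              Matrix.transpose_pow]
        have e : N⁻¹ = g * (τ N)⁻¹ * g⁻¹ := by (conv_lhs => rw [← hN]); group
        rw [e, aeval_conj]
        have e2 : (((τ N)⁻¹ : GL (Fin d) F) : Mat) =
            ((GeneralLinearGroup.map σ.toRingHom N : GL (Fin d) F) : Mat)ᵀ := by
          show ((((GeneralLinearGroup.map σ.toRingHom) (glInvT N))⁻¹ : GL (Fin d) F) : Mat) = _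
          rw [glMap_glInvT]; rfl
        rw [e2, h2, h1]
        simp
      have h := pord_half N hd3 h32 σ.toRingHom hrel
      rw [← hq] at h
      rw [hk1', mul_one] at hord
      calc (q - 1) * orderOf _ ≤ (q - 1) * (2 * pord N) := Nat.mul_le_mul_left _ hord
        _ = 2 * (pord N * (q - 1)) := by ring
        _ ≤ q ^ d - 1 := by omega
    · obtain ⟨K, hK, hcard⟩ := fixedField (σ ^ 2)
      rw [← hk] at hcard
      have h1 : 2 ≤ Nat.card K := Finite.one_lt_card
      have hnot : ¬ (Nat.card K = 2 ∧ k = 2) := by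
        rintro ⟨e1, e2⟩
        obtain ⟨K', -, hcard'⟩ := fixedField σ
        have h4 : orderOf σ ≤ 2 := by
          rw [e1, e2, hcard'] at hcard
          have : 2 ^ orderOf σ ≤ 2 ^ 2 :=
            le_trans (Nat.pow_le_pow_left (Finite.one_lt_card (α := K')) _) hcard.le
          exact (Nat.pow_le_pow_iff_right (by norm_num)).1 this
        have : σ ^ 2 = 1 := by
          have := orderOf_pos σ
          apply orderOf_dvd_iff_pow_eq_one.1
          interval_cases (orderOf σ) <;> norm_num
        rw [hk, this, orderOf_one] at hk2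
        omega
      refine final_of_geom hq2 hord ?_
      have hN2 : g * τ g * GeneralLinearGroup.map (σ ^ 2).toRingHom N * (g * τ g)⁻¹ = N := by
        have e := congrArg τ hN
        rw [map_mul, map_mul, map_inv, hτ2] at e
        conv_rhs => rw [← hN, ← e]
        group
      refine (Nat.mul_le_mul_left _ (pord_le_fixed (by omega) N (g * τ g) (σ ^ 2) hN2 K hK)).trans ?_
      rw [hq, hcard]
      refine geom_mono h1 (by omega) (Or.inr ⟨hk2, le_rfl⟩) (by norm_num) ?_ d hd3
      simp only [geom, Finset.sum_range_succ, Finset.sum_range_zero, pow_zero, pow_one, zero_add]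
      rcases Nat.lt_or_ge k 3 with hk3 | hk3
      · rw [show k = 2 by omega]
        have hK3 : 3 ≤ Nat.card K := by
          by_contra hlt
          exact hnot ⟨by omega, by omega⟩
        nlinarith [Nat.mul_le_mul_left (Nat.card K ^ 2) (Nat.mul_le_mul hK3 hK3)]
      · have h8 : ∀ s, 4 * (s + 3) ≤ (Nat.card K ^ 2) ^ (s + 2) := by
          intro s
          refine le_trans ?_ (Nat.pow_le_pow_left (show 4 ≤ Nat.card K ^ 2 from Nat.pow_le_pow_left h1 2) _)
          induction s with
          | zero => norm_num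
          | succ s ih => rw [pow_succ _ (s + 2)]; omega
        have h9 : 1 + Nat.card K + Nat.card K ^ 2 ≤ 2 * Nat.card K ^ 2 := by nlinarith
        obtain ⟨r, hr⟩ : ∃ r, k = r + 3 := ⟨k - 3, by omega⟩
        rw [hr]
        calc 2 * (r + 3) * (1 + Nat.card K + Nat.card K ^ 2) ≤ Nat.card K ^ 2 * (4 * (r + 3)) :=
            (Nat.mul_le_mul_left _ h9).trans (le_of_eq (by ring))
          _ ≤ Nat.card K ^ 2 * (Nat.card K ^ 2) ^ (r + 2) := Nat.mul_le_mul_left _ (h8 r)
          _ = (Nat.card K ^ (r + 3)) ^ 2 := by ring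
          _ ≤ _ := Nat.le_add_left _ _

/-- The Singer element. -/
theorem attained [Fintype F] (hd : 2 ≤ d) :
    ∃ φ : MulAut PSLd, (Fintype.card F - 1) * orderOf φ = Fintype.card F ^ d - 1 := by
  obtain ⟨-, x, hx⟩ := Cfsg.Agent.S2261.result (F := F) d (by omega)
  obtain ⟨g, rfl⟩ := QuotientGroup.mk_surjective x
  refine ⟨conjAut g, ?_⟩
  rw [← hx]
  congr 1
  refine orderOf_eq_orderOf_iff.2 fun s => ?_
  rw [← map_pow, ← QuotientGroup.mk_pow, QuotientGroup.eq_one_iff]
  refine ⟨fun h => ?_, conjAut_eq_one_of_center⟩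
  exact (eq_one_of_conj_field (σ := 1) hd (by rw [map_one, mul_one, h])).1

end Cfsg.Agent.Lib.AutPSLOrder
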